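import Mathlib.CategoryTheory.Abelian.Basic

/-! # The pullback of a monomorphism as a kernel -/

set_option autoImplicit false

universe v u

open CategoryTheory CategoryTheory.Limits

namespace PullKerLib

variable {C : Type u} [Category.{v} C] [Abelian C] {A B E : C} (a : A ⟶ E) (b : B ⟶ E) [Mono b]

/-- The pullback of a monomorphism `b` along `a` is the kernel of `a` followed by the cokernel of `b`. -/
noncomputable def pullbackIsoKernel : pullback a b ≅ kernel (a ≫ cokernel.π b) where
  hom := kernel.lift _ (pullback.fst a b) (by
    rw [← Category.assoc, pullback.condition, Category.assoc, cokernel.condition, comp_zero])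
  inv := pullback.lift (kernel.ι _)
    (Abelian.monoLift b (kernel.ι (a ≫ cokernel.π b) ≫ a) (by rw [Category.assoc, kernel.condition]))
    (Abelian.monoLift_comp b _ _).symm
  hom_inv_id := by
    apply pullback.hom_ext
    · rw [Category.id_comp, Category.assoc, pullback.lift_fst]
      exact kernel.lift_ι _ _ _
    · rw [← cancel_mono b, Category.id_comp, Category.assoc, Category.assoc, pullback.lift_snd_assoc,
        Abelian.monoLift_comp, kernel.lift_ι_assoc]
      exact pullback.condition
  inv_hom_id := by
    apply equalizer.hom_ext
    rw [Category.id_comp, Category.assoc]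
    exact (congrArg (_ ≫ ·) (kernel.lift_ι _ _ _)).trans (pullback.lift_fst _ _ _)

end PullKerLib
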